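import Groth.Prelude.Def_SpSeq
import Mathlib.CategoryTheory.Abelian.Refinements
import Mathlib.CategoryTheory.Abelian.CommSq

set_option autoImplicit false
set_option backward.isDefEq.respectTransparency false
set_option backward.isDefEq.respectTransparency.types false
universe v u
open CategoryTheory CategoryTheory.Limits

namespace Groth.Agent.FilObjX

variable {A : Type u} [Category.{v} A] [Abelian A]

theorem le_iff_factors {X : A} {S T : Subobject X} : S ≤ T ↔ T.Factors S.arrow :=
  ⟨fun h => Subobject.factors_of_le _ h (Subobject.factors_self S), fun h =>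
    Subobject.le_of_comm (T.factorThru S.arrow h) (Subobject.factorThru_arrow _ _ _)⟩

theorem image_le_iff {X Y : A} {f : Y ⟶ X} {S : Subobject X} : imageSubobject f ≤ S ↔ S.Factors f :=
  ⟨fun h => Subobject.factors_of_le _ h ((Subobject.factors_iff _ _).2
      ⟨factorThruImageSubobject f, imageSubobject_arrow_comp f⟩), fun h =>
    imageSubobject_le f (S.factorThru f h) (Subobject.factorThru_arrow _ _ _)⟩

theorem ref_of_factors_image {X Y T : A} {h : Y ⟶ X} {x : T ⟶ X}
    (hx : (imageSubobject h).Factors x) :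
    ∃ (T' : A) (p : T' ⟶ T) (_ : Epi p) (y : T' ⟶ Y), p ≫ x = y ≫ h := by
  obtain ⟨T', p, hp, y, hy⟩ :=
    surjective_up_to_refinements_of_epi (factorThruImageSubobject h) ((imageSubobject h).factorThru x hx)
  refine ⟨T', p, hp, y, ?_⟩
  have := hy =≫ (imageSubobject h).arrow
  simpa using this

theorem factors_of_ref {X T T' : A} {S : Subobject X} (x : T ⟶ X) (p : T' ⟶ T) [Epi p]
    (h : S.Factors (p ≫ x)) : S.Factors x := by
  have h0 : p ≫ x ≫ cokernel.π S.arrow = 0 := by
    rw [← Category.assoc, ← Subobject.factorThru_arrow _ _ h, Category.assoc, cokernel.condition, comp_zero]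
  exact (Subobject.factors_iff _ _).2 ⟨Abelian.monoLift S.arrow x (by
    rw [← cancel_epi p, h0, comp_zero]), Abelian.monoLift_comp _ _ _⟩

theorem factors_image {X Y T : A} (h : Y ⟶ X) (y : T ⟶ Y) : (imageSubobject h).Factors (y ≫ h) :=
  (Subobject.factors_iff _ _).2 ⟨y ≫ factorThruImageSubobject h, by simp⟩

theorem compat_iff {K L : SpSeq.FilObj A} (f : K.obj ⟶ L.obj) (p : ℤ) :
    K.fil p ≤ (Subobject.pullback f).obj (L.fil p) ↔ (L.fil p).Factors ((K.fil p).arrow ≫ f) := by
  rw [le_iff_factors, Limits.pullback_factors_iff]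

theorem factors_hom {K L : SpSeq.FilObj A} (f : K ⟶ L) (p : ℤ) {T : A} (x : T ⟶ K.obj)
    (hx : (K.fil p).Factors x) : (L.fil p).Factors (x ≫ f.hom) := by
  have h := (compat_iff f.hom p).1 (f.compat p)
  rw [← Subobject.factorThru_arrow _ _ hx, Category.assoc]
  exact Subobject.factors_of_factors_right _ h

theorem isStrict_of_isIso {K L : SpSeq.FilObj A} (e : K ⟶ L) [IsIso e] : SpSeq.FilObj.IsStrict e := by
  intro p
  refine le_antisymm (le_inf ?_ ?_) ?_
  · rw [image_le_iff]; exact factors_image _ _
  · rw [image_le_iff]; exact factors_hom e p _ (Subobject.factors_self _)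
  · rw [le_iff_factors]
    have h1 : (L.fil p).Factors (imageSubobject e.hom ⊓ L.fil p).arrow :=
      le_iff_factors.1 inf_le_right
    have h2 := factors_hom (inv e) p _ h1
    set x := (imageSubobject e.hom ⊓ L.fil p).arrow
    refine (Subobject.factors_iff _ _).2 ?_
    refine ⟨(K.fil p).factorThru _ h2 ≫ factorThruImageSubobject _, ?_⟩
    erw [Category.assoc, imageSubobject_arrow_comp, ← Category.assoc, Subobject.factorThru_arrow]
    rw [Category.assoc, show (inv e).hom ≫ e.hom = 𝟙 _ from
        congrArg SpSeq.FilObj.Hom.hom (IsIso.inv_hom_id e), Category.comp_id]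

theorem mono_hom_of_isIso {K L : SpSeq.FilObj A} (e : K ⟶ L) [IsIso e] : Mono e.hom :=
  inferInstanceAs (Mono (SpSeq.FilObj.forget.map e))

theorem isStrict_isIso_comp {K L M : SpSeq.FilObj A} (e : K ⟶ L) [IsIso e] {h : L ⟶ M}
    (hh : SpSeq.FilObj.IsStrict h) : SpSeq.FilObj.IsStrict (e ≫ h) := by
  intro p
  refine le_antisymm (le_inf ?_ ?_) ?_
  · rw [image_le_iff]; exact factors_image _ _
  · rw [image_le_iff]; exact factors_hom (e ≫ h) p _ (Subobject.factors_self _)
  · rw [le_iff_factors]
    set x := (imageSubobject (e ≫ h).hom ⊓ M.fil p).arrow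
    have h1 : (imageSubobject ((L.fil p).arrow ≫ h.hom)).Factors x := by
      rw [hh p, Subobject.inf_factors]
      exact ⟨Subobject.factors_of_le _ (imageSubobject_comp_le e.hom h.hom) (le_iff_factors.1 inf_le_left),
        le_iff_factors.1 inf_le_right⟩
    obtain ⟨T, p₁, _, y, hy⟩ := ref_of_factors_image h1
    have h2 : (K.fil p).Factors ((y ≫ (L.fil p).arrow) ≫ (inv e).hom) :=
      factors_hom (inv e) p _ (Subobject.factors_of_factors_right _ (Subobject.factors_self _))
    refine factors_of_ref x p₁ ?_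
    have : p₁ ≫ x = (K.fil p).factorThru _ h2 ≫ (K.fil p).arrow ≫ (e ≫ h).hom := by
      rw [Subobject.factorThru_arrow_assoc]
      refine hy.trans ?_
      show _ = ((y ≫ (L.fil p).arrow) ≫ (inv e).hom) ≫ e.hom ≫ h.hom
      simp only [Category.assoc]
      rw [← Category.assoc (inv e).hom, show (inv e).hom ≫ e.hom = 𝟙 _ from
          congrArg SpSeq.FilObj.Hom.hom (IsIso.inv_hom_id e), Category.id_comp]
    rw [this]
    exact factors_image _ _

/-- The pushout filtered object. -/
noncomputable def pushoutObj {K L M : SpSeq.FilObj A} (f : K ⟶ L) (g : K ⟶ M) : SpSeq.FilObj A where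
  obj := pushout f.hom g.hom
  fil p := imageSubobject (biprod.desc ((L.fil p).arrow ≫ pushout.inl f.hom g.hom)
    ((M.fil p).arrow ≫ pushout.inr f.hom g.hom))
  anti p q h := by
    dsimp only
    rw [image_le_iff]
    refine (Subobject.factors_iff _ _).2 ⟨biprod.desc ((L.fil q).ofLE _ (L.anti h) ≫ biprod.inl)
      ((M.fil q).ofLE _ (M.anti h) ≫ biprod.inr) ≫ factorThruImageSubobject _, ?_⟩
    apply biprod.hom_ext' <;> simp

variable {K L M : SpSeq.FilObj A} (f : K ⟶ L) (g : K ⟶ M)

theorem factors_pushoutObj_left (p : ℤ) :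
    ((pushoutObj f g).fil p).Factors ((L.fil p).arrow ≫ pushout.inl f.hom g.hom) := by
  have h := factors_image (biprod.desc ((L.fil p).arrow ≫ pushout.inl f.hom g.hom)
    ((M.fil p).arrow ≫ pushout.inr f.hom g.hom)) biprod.inl
  rw [biprod.inl_desc] at h
  exact h

theorem factors_pushoutObj_right (p : ℤ) :
    ((pushoutObj f g).fil p).Factors ((M.fil p).arrow ≫ pushout.inr f.hom g.hom) := by
  have h := factors_image (biprod.desc ((L.fil p).arrow ≫ pushout.inl f.hom g.hom)
    ((M.fil p).arrow ≫ pushout.inr f.hom g.hom)) biprod.inr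
  rw [biprod.inr_desc] at h
  exact h

noncomputable def inl : L ⟶ pushoutObj f g :=
  ⟨pushout.inl f.hom g.hom, fun p => (compat_iff (L := pushoutObj f g) _ p).2 (factors_pushoutObj_left f g p)⟩

noncomputable def inr : M ⟶ pushoutObj f g :=
  ⟨pushout.inr f.hom g.hom, fun p => (compat_iff (L := pushoutObj f g) _ p).2 (factors_pushoutObj_right f g p)⟩

theorem isPushout : IsPushout f g (inl f g) (inr f g) := by
  have w : f ≫ inl f g = g ≫ inr f g := SpSeq.FilObj.Hom.ext pushout.condition
  refine ⟨⟨w⟩, ⟨PushoutCocone.IsColimit.mk w (fun s => ⟨pushout.desc s.inl.hom s.inr.hom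
    (congrArg SpSeq.FilObj.Hom.hom s.condition), fun p => ?_⟩) ?_ ?_ ?_⟩⟩
  · refine (compat_iff (K := pushoutObj f g) _ p).2 ?_
    obtain ⟨T', e, _, y, hy⟩ := ref_of_factors_image (Subobject.factors_self ((pushoutObj f g).fil p))
    apply factors_of_ref _ e
    rw [reassoc_of% hy]
    apply Subobject.factors_of_factors_right
    rw [biprod.desc_eq, Preadditive.add_comp]
    simp only [Category.assoc]
    erw [pushout.inl_desc, pushout.inr_desc]
    apply Subobject.factors_add
    · exact Subobject.factors_of_factors_right _ (factors_hom s.inl p _ (Subobject.factors_self _))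
    · exact Subobject.factors_of_factors_right _ (factors_hom s.inr p _ (Subobject.factors_self _))
  · intro s; exact SpSeq.FilObj.Hom.ext (pushout.inl_desc _ _ _)
  · intro s; exact SpSeq.FilObj.Hom.ext (pushout.inr_desc _ _ _)
  · intro s m h1 h2
    refine SpSeq.FilObj.Hom.ext (pushout.hom_ext ?_ ?_)
    · exact (congrArg SpSeq.FilObj.Hom.hom h1).trans (pushout.inl_desc _ _ _).symm
    · exact (congrArg SpSeq.FilObj.Hom.hom h2).trans (pushout.inr_desc _ _ _).symm

theorem isStrict_inr (hf : SpSeq.FilObj.IsStrict f) : SpSeq.FilObj.IsStrict (inr f g) := by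
  intro p
  refine le_antisymm (le_inf ?_ ?_) ?_
  · rw [image_le_iff]; exact factors_image _ _
  · rw [image_le_iff]; exact factors_hom (inr f g) p _ (Subobject.factors_self _)
  · rw [le_iff_factors]
    set x := (imageSubobject (inr f g).hom ⊓ (pushoutObj f g).fil p).arrow
    obtain ⟨T₁, p₁, _, m, hm⟩ := ref_of_factors_image (x := x) (le_iff_factors.1 inf_le_left)
    have h2 : ((pushoutObj f g).fil p).Factors (p₁ ≫ x) :=
      Subobject.factors_of_factors_right _ (le_iff_factors.1 inf_le_right)
    obtain ⟨T₂, p₂, _, y, hy⟩ := ref_of_factors_image h2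
    -- p₂ ≫ m ≫ inr = (L-part) ≫ inl + (M-part) ≫ inr
    let l : T₂ ⟶ L.obj := y ≫ biprod.fst ≫ (L.fil p).arrow
    let mm : T₂ ⟶ M.obj := p₂ ≫ m - y ≫ biprod.snd ≫ (M.fil p).arrow
    have heq : l ≫ pushout.inl f.hom g.hom = mm ≫ pushout.inr f.hom g.hom := by
      have hy' : p₂ ≫ m ≫ pushout.inr f.hom g.hom = y ≫ biprod.desc ((L.fil p).arrow ≫ pushout.inl f.hom g.hom)
          ((M.fil p).arrow ≫ pushout.inr f.hom g.hom) := by
        rw [← hy]; exact congrArg (p₂ ≫ ·) hm.symm
      rw [Preadditive.sub_comp, Category.assoc p₂, hy', biprod.desc_eq]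
      simp [l]
    have hex : (ShortComplex.mk (biprod.lift f.hom (-g.hom))
        (biprod.desc (pushout.inl f.hom g.hom) (pushout.inr f.hom g.hom))
        (by simp [pushout.condition])).Exact :=
      ((IsPushout.of_hasPushout f.hom g.hom).exact_shortComplex)
    obtain ⟨T₃, p₃, _, k, hk⟩ := hex.exact_up_to_refinements (biprod.lift l (-mm))
      (by simp [heq])
    dsimp at hk
    have hk1 : p₃ ≫ l = k ≫ f.hom := by simpa using hk =≫ biprod.fst
    have hk2 : p₃ ≫ mm = k ≫ g.hom := by simpa using hk =≫ biprod.snd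
    -- strictness of f
    have h3 : (imageSubobject ((K.fil p).arrow ≫ f.hom)).Factors (p₃ ≫ l) := by
      rw [hf p, Subobject.inf_factors]
      exact ⟨hk1 ▸ factors_image _ _, Subobject.factors_of_factors_right _
        (Subobject.factors_of_factors_right _ (Subobject.factors_of_factors_right _ (Subobject.factors_self _)))⟩
    obtain ⟨T₄, p₄, _, k', hk'⟩ := ref_of_factors_image h3
    refine factors_of_ref x p₁ (factors_of_ref _ p₂ (factors_of_ref _ p₃ (factors_of_ref _ p₄ ?_)))
    have hM : (M.fil p).Factors ((k' ≫ (K.fil p).arrow) ≫ g.hom + p₄ ≫ p₃ ≫ y ≫ biprod.snd ≫ (M.fil p).arrow) := by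
      apply Subobject.factors_add
      · exact factors_hom g p _ (Subobject.factors_of_factors_right _ (Subobject.factors_self _))
      · exact Subobject.factors_of_factors_right _ (Subobject.factors_of_factors_right _
          (Subobject.factors_of_factors_right _ (Subobject.factors_of_factors_right _ (Subobject.factors_self _))))
    have e1 : p₄ ≫ p₃ ≫ p₂ ≫ p₁ ≫ x =
        (k' ≫ (K.fil p).arrow) ≫ g.hom ≫ pushout.inr f.hom g.hom +
          (p₄ ≫ p₃ ≫ y ≫ biprod.snd ≫ (M.fil p).arrow) ≫ pushout.inr f.hom g.hom := by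
      rw [← pushout.condition]
      have : p₂ ≫ p₁ ≫ x = l ≫ pushout.inl f.hom g.hom +
          (y ≫ biprod.snd ≫ (M.fil p).arrow) ≫ pushout.inr f.hom g.hom := by
        rw [hy]; show y ≫ biprod.desc _ _ = _
        simp [biprod.desc_eq, l]
      rw [this, Preadditive.comp_add, Preadditive.comp_add]
      have := hk' =≫ pushout.inl f.hom g.hom
      simp only [Category.assoc] at this ⊢
      rw [← this]
    rw [e1, ← Category.assoc (k' ≫ _), ← Preadditive.add_comp, ← Subobject.factorThru_arrow _ _ hM,
      Category.assoc]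
    exact factors_image _ _

section Pullback

variable {K L M : SpSeq.FilObj A} (f : L ⟶ K) (g : M ⟶ K)

/-- The pullback filtered object. -/
noncomputable def pullbackObj : SpSeq.FilObj A where
  obj := pullback f.hom g.hom
  fil p := (Subobject.pullback (pullback.fst f.hom g.hom)).obj (L.fil p) ⊓
    (Subobject.pullback (pullback.snd f.hom g.hom)).obj (M.fil p)
  anti p q h := inf_le_inf (((Subobject.pullback _).map (homOfLE (L.anti h))).le)
    (((Subobject.pullback _).map (homOfLE (M.anti h))).le)

theorem factors_pullbackObj_iff (p : ℤ) {T : A} (x : T ⟶ pullback f.hom g.hom) :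
    ((pullbackObj f g).fil p).Factors x ↔ (L.fil p).Factors (x ≫ pullback.fst f.hom g.hom) ∧
      (M.fil p).Factors (x ≫ pullback.snd f.hom g.hom) := by
  show Subobject.Factors (_ ⊓ _) x ↔ _
  rw [Subobject.inf_factors, Limits.pullback_factors_iff, Limits.pullback_factors_iff]

noncomputable def fst : pullbackObj f g ⟶ L := ⟨pullback.fst f.hom g.hom, fun _ => inf_le_left⟩

noncomputable def snd : pullbackObj f g ⟶ M := ⟨pullback.snd f.hom g.hom, fun _ => inf_le_right⟩

theorem isPullback : IsPullback (fst f g) (snd f g) f g := by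
  have w : fst f g ≫ f = snd f g ≫ g := SpSeq.FilObj.Hom.ext pullback.condition
  refine ⟨⟨w⟩, ⟨PullbackCone.IsLimit.mk w (fun s => ⟨pullback.lift s.fst.hom s.snd.hom
    (congrArg SpSeq.FilObj.Hom.hom s.condition), fun p => ?_⟩) ?_ ?_ ?_⟩⟩
  · refine (compat_iff (L := pullbackObj f g) _ p).2 ((factors_pullbackObj_iff f g p _).2 ⟨?_, ?_⟩)
    · rw [Category.assoc, pullback.lift_fst]; exact factors_hom s.fst p _ (Subobject.factors_self _)
    · rw [Category.assoc, pullback.lift_snd]; exact factors_hom s.snd p _ (Subobject.factors_self _)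
  · intro s; exact SpSeq.FilObj.Hom.ext (pullback.lift_fst _ _ _)
  · intro s; exact SpSeq.FilObj.Hom.ext (pullback.lift_snd _ _ _)
  · intro s m h1 h2
    refine SpSeq.FilObj.Hom.ext (pullback.hom_ext ?_ ?_)
    · exact (congrArg SpSeq.FilObj.Hom.hom h1).trans (pullback.lift_fst _ _ _).symm
    · exact (congrArg SpSeq.FilObj.Hom.hom h2).trans (pullback.lift_snd _ _ _).symm

theorem isStrict_snd (hf : SpSeq.FilObj.IsStrict f) : SpSeq.FilObj.IsStrict (snd f g) := by
  intro p
  refine le_antisymm (le_inf ?_ ?_) ?_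
  · rw [image_le_iff]; exact factors_image _ _
  · rw [image_le_iff]; exact factors_hom (snd f g) p _ (Subobject.factors_self _)
  · rw [le_iff_factors]
    set x := (imageSubobject (snd f g).hom ⊓ M.fil p).arrow
    obtain ⟨T₁, p₁, _, y, hy⟩ := ref_of_factors_image (x := x) (le_iff_factors.1 inf_le_left)
    have hx : (M.fil p).Factors (p₁ ≫ x) :=
      Subobject.factors_of_factors_right _ (le_iff_factors.1 inf_le_right)
    have hf' : (y ≫ pullback.fst f.hom g.hom) ≫ f.hom = (p₁ ≫ x) ≫ g.hom := by
      rw [hy, Category.assoc, Category.assoc, pullback.condition]; rfl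
    have h3 : (imageSubobject ((L.fil p).arrow ≫ f.hom)).Factors ((p₁ ≫ x) ≫ g.hom) := by
      rw [hf p, Subobject.inf_factors]
      exact ⟨hf' ▸ factors_image _ _, factors_hom g p _ hx⟩
    obtain ⟨T₂, p₂, _, l, hl⟩ := ref_of_factors_image h3
    refine factors_of_ref x p₁ (factors_of_ref _ p₂ ?_)
    let z : T₂ ⟶ pullback f.hom g.hom := pullback.lift (l ≫ (L.fil p).arrow) (p₂ ≫ p₁ ≫ x)
      (by simp only [Category.assoc] at hl ⊢; exact hl.symm)
    have hz : ((pullbackObj f g).fil p).Factors z := by
      rw [factors_pullbackObj_iff]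
      constructor
      · rw [pullback.lift_fst]; exact Subobject.factors_of_factors_right _ (Subobject.factors_self _)
      · rw [pullback.lift_snd]; exact Subobject.factors_of_factors_right _ hx
    have e : ((pullbackObj f g).fil p).factorThru z hz ≫ ((pullbackObj f g).fil p).arrow ≫ (snd f g).hom =
        p₂ ≫ p₁ ≫ x := by
      rw [Subobject.factorThru_arrow_assoc]; exact pullback.lift_snd _ _ _
    rw [← e]
    exact factors_image _ _

end Pullback

end Groth.Agent.FilObjX
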